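import Groth.Prelude.Def_SGA6
import Mathlib.CategoryTheory.Abelian.Refinements
import Mathlib.Algebra.Homology.ShortComplex.HomologicalComplex
import Mathlib.Algebra.Homology.Single

/-!
The resolution theorem for `K₀`.
-/

set_option autoImplicit false

universe v u

open CategoryTheory Limits

namespace Groth.Agent.Lead.KZeroRes

variable {C : Type u} [Category.{v} C] [Abelian C]

section general

open KZero

variable (P : ObjectProperty C)

theorem clSub_eq {X : C} (h : P X) : clSub P X = QuotientAddGroup.mk (FreeAbelianGroup.of ⟨X, h⟩) := dif_pos h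

theorem clSub_add (S : ShortComplex C) (hS : S.ShortExact) (h₁ : P S.X₁) (h₂ : P S.X₂) (h₃ : P S.X₃) :
    clSub P S.X₂ = clSub P S.X₁ + clSub P S.X₃ := by
  rw [clSub_eq P h₁, clSub_eq P h₂, clSub_eq P h₃]
  refine (QuotientAddGroup.eq_iff_sub_mem (N := relSub P)).2 (AddSubgroup.subset_closure ⟨S, h₁, h₂, h₃, hS, (sub_sub _ _ _).symm⟩)

theorem clSub_of_isZero {Z : C} (hZ : IsZero Z) (h : P Z) : clSub P Z = 0 := by
  have hS : (ShortComplex.mk (𝟙 Z) (0 : Z ⟶ Z) comp_zero).ShortExact :=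
    ShortComplex.ShortExact.mk' (ShortComplex.exact_of_isZero_X₂ _ hZ) (inferInstance : Mono (𝟙 Z)) (hZ.epi _)
  exact left_eq_add.1 (clSub_add P _ hS h h h)

theorem shortExact_kernel_ι {A B : C} (f : A ⟶ B) [Epi f] :
    (ShortComplex.mk (kernel.ι f) f (kernel.condition f)).ShortExact :=
  ShortComplex.ShortExact.mk' (ShortComplex.exact_of_f_is_kernel _ (kernelIsKernel f))
    (inferInstance : Mono (kernel.ι f)) ‹Epi f›

theorem shortExact_biprod (A B : C) :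
    (ShortComplex.mk (biprod.inl : A ⟶ A ⊞ B) biprod.snd biprod.inl_snd).ShortExact :=
  ShortComplex.Splitting.shortExact { r := biprod.fst, s := biprod.inr }

/-- kernels in a map of short exact sequences whose first component is epi -/
theorem kernels_shortExact {S₁ S₂ : ShortComplex C} (hS₁ : S₁.ShortExact) (hS₂ : S₂.ShortExact) (φ : S₁ ⟶ S₂)
    [Epi φ.τ₁] :
    (ShortComplex.mk (kernel.map φ.τ₁ φ.τ₂ S₁.f S₂.f φ.comm₁₂)
      (kernel.map φ.τ₂ φ.τ₃ S₁.g S₂.g φ.comm₂₃)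
      (by rw [← cancel_mono (kernel.ι φ.τ₃)]; simp)).ShortExact := by
  haveI := hS₁.mono_f
  haveI := hS₂.mono_f
  haveI := hS₁.epi_g
  refine ShortComplex.ShortExact.mk' ?_ ?_ ?_
  · rw [ShortComplex.exact_iff_exact_up_to_refinements]
    intro P' x hx
    have hx' : (x ≫ kernel.ι φ.τ₂) ≫ S₁.g = 0 := by
      have := congrArg (· ≫ kernel.ι φ.τ₃) hx
      simpa using this
    obtain ⟨P₁, π₁, hπ₁, z, hz⟩ := hS₁.exact.exact_up_to_refinements (x ≫ kernel.ι φ.τ₂) hx'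
    have hz' : z ≫ φ.τ₁ = 0 := by
      rw [← cancel_mono S₂.f, Category.assoc, φ.comm₁₂, ← Category.assoc, ← hz]
      simp
    refine ⟨P₁, π₁, hπ₁, kernel.lift _ z hz', ?_⟩
    rw [← cancel_mono (kernel.ι φ.τ₂)]
    simpa using hz
  · refine Preadditive.mono_of_cancel_zero _ fun x hx => ?_
    have hx' := congrArg (· ≫ kernel.ι φ.τ₂) hx
    rw [← cancel_mono (kernel.ι φ.τ₁), ← cancel_mono S₁.f]
    simpa using hx'
  · rw [epi_iff_surjective_up_to_refinements]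
    intro P' x
    obtain ⟨P₁, π₁, hπ₁, y, hy⟩ := surjective_up_to_refinements_of_epi S₁.g (x ≫ kernel.ι φ.τ₃)
    have hy' : (y ≫ φ.τ₂) ≫ S₂.g = 0 := by
      rw [Category.assoc, φ.comm₂₃, ← Category.assoc, ← hy]
      simp
    obtain ⟨P₂, π₂, hπ₂, z, hz⟩ := hS₂.exact.exact_up_to_refinements (y ≫ φ.τ₂) hy'
    obtain ⟨P₃, π₃, hπ₃, w, hw⟩ := surjective_up_to_refinements_of_epi φ.τ₁ z
    have hk : (π₃ ≫ π₂ ≫ y - w ≫ S₁.f) ≫ φ.τ₂ = 0 := by
      rw [Preadditive.sub_comp, sub_eq_zero, Category.assoc, Category.assoc, hz, Category.assoc, ← φ.comm₁₂,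
        ← Category.assoc w, ← hw, Category.assoc]
    refine ⟨P₃, π₃ ≫ π₂ ≫ π₁, inferInstance, kernel.lift _ _ hk, ?_⟩
    rw [← cancel_mono (kernel.ι φ.τ₃)]
    simp [hy]

/-- the kernels of a composite of an epi `h` and `π` -/
theorem kernelComp_shortExact {L' L A : C} (h : L' ⟶ L) (π : L ⟶ A) [Epi h] :
    (ShortComplex.mk (kernel.lift (h ≫ π) (kernel.ι h) (by simp))
      (kernel.lift π (kernel.ι (h ≫ π) ≫ h) (by simp))
      (by rw [← cancel_mono (kernel.ι π)]; simp)).ShortExact := by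
  refine ShortComplex.ShortExact.mk' ?_ ?_ ?_
  · rw [ShortComplex.exact_iff_exact_up_to_refinements]
    intro P' x hx
    have hx' : (x ≫ kernel.ι (h ≫ π)) ≫ h = 0 := by
      have := congrArg (· ≫ kernel.ι π) hx
      simpa using this
    exact ⟨P', 𝟙 _, inferInstance, kernel.lift h _ hx', by rw [← cancel_mono (kernel.ι (h ≫ π))]; simp⟩
  · exact mono_of_mono_fac (kernel.lift_ι _ _ _)
  · rw [epi_iff_surjective_up_to_refinements]
    intro P' x
    obtain ⟨P₁, π₁, hπ₁, y, hy⟩ := surjective_up_to_refinements_of_epi h (x ≫ kernel.ι π)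
    refine ⟨P₁, π₁, hπ₁, kernel.lift (h ≫ π) y (by rw [← Category.assoc, ← hy]; simp), ?_⟩
    rw [← cancel_mono (kernel.ι π)]
    simp [hy]

end general

/-- hypotheses of the resolution theorem, without the finiteness -/
structure Hyp (P₀ P₁ : ObjectProperty C) : Prop where
  iso₀ : P₀.IsClosedUnderIsomorphisms
  hle : ∀ X, P₀ X → P₁ X
  hext₀ : ∀ S : ShortComplex C, S.ShortExact → P₀ S.X₁ → P₀ S.X₃ → P₀ S.X₂
  hext₁ : ∀ S : ShortComplex C, S.ShortExact → P₁ S.X₁ → P₁ S.X₃ → P₁ S.X₂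
  h1₀ : ∀ S : ShortComplex C, S.ShortExact → P₀ S.X₂ → P₀ S.X₃ → P₀ S.X₁
  h1₁ : ∀ S : ShortComplex C, S.ShortExact → P₁ S.X₂ → P₁ S.X₃ → P₁ S.X₁
  h2 : ∀ (A B D : C) (u : A ⟶ B) (v : D ⟶ B), Epi u → P₁ A → P₁ B → P₁ D →
    ∃ (L : C) (u' : L ⟶ D) (v' : L ⟶ A), P₀ L ∧ Epi u' ∧ u' ≫ v = v' ≫ u

variable (P₀ P₁ : ObjectProperty C)

/-- dimension at most `n` -/
def Dim : ℕ → C → Prop
  | 0, A => P₀ A
  | n + 1, A => P₁ A ∧ ∀ (L : C) (π : L ⟶ A), Epi π → P₀ L → Dim n (kernel π)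

/-- the class computed by resolutions of length `n` -/
noncomputable def chi : ℕ → C → KZero.K0sub P₀
  | 0, A => KZero.clSub P₀ A
  | n + 1, A =>
    open Classical in
    if h : ∃ (L : C) (π : L ⟶ A), Epi π ∧ P₀ L then
      KZero.clSub P₀ h.choose - chi n (kernel h.choose_spec.choose) else 0

variable {P₀ P₁}

namespace Hyp

variable (H : Hyp P₀ P₁)
include H

theorem cover {A : C} (hA : P₁ A) : ∃ (L : C) (π : L ⟶ A), Epi π ∧ P₀ L :=
  let ⟨L, u', _, hL, hu, _⟩ := H.h2 A A A (𝟙 A) (𝟙 A) inferInstance hA hA hA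
  ⟨L, u', hu, hL⟩

theorem kernel₀ {A B : C} (f : A ⟶ B) [Epi f] (hA : P₀ A) (hB : P₀ B) : P₀ (kernel f) :=
  H.h1₀ _ (shortExact_kernel_ι f) hA hB

theorem kernel₁ {A B : C} (f : A ⟶ B) [Epi f] (hA : P₁ A) (hB : P₁ B) : P₁ (kernel f) :=
  H.h1₁ _ (shortExact_kernel_ι f) hA hB

theorem biprod₀ {A B : C} (hA : P₀ A) (hB : P₀ B) : P₀ (A ⊞ B) :=
  H.hext₀ _ (shortExact_biprod A B) hA hB

theorem dim_succ : ∀ (n : ℕ) {A : C}, Dim P₀ P₁ n A → Dim P₀ P₁ (n + 1) A
  | 0, A, h => ⟨H.hle A h, fun _ π _ hL => H.kernel₀ π hL h⟩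
  | n + 1, _, h => ⟨h.1, fun L π hπ hL => dim_succ n (h.2 L π hπ hL)⟩

theorem dim_mono {m n : ℕ} (h : m ≤ n) {A : C} (hA : Dim P₀ P₁ m A) : Dim P₀ P₁ n A := by
  induction h with
  | refl => exact hA
  | step _ ih => exact H.dim_succ _ ih

theorem dim_P₁ : ∀ {n : ℕ} {A : C}, Dim P₀ P₁ n A → P₁ A
  | 0, A, h => H.hle A h
  | _ + 1, _, h => h.1

/-- `chi n` extends the class, is additive, and is computed by every cover -/
theorem main (n : ℕ) :
    (∀ {X : C}, P₀ X → chi P₀ n X = KZero.clSub P₀ X) ∧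
    (∀ S : ShortComplex C, S.ShortExact → Dim P₀ P₁ n S.X₁ → Dim P₀ P₁ n S.X₂ → Dim P₀ P₁ n S.X₃ →
      chi P₀ n S.X₂ = chi P₀ n S.X₁ + chi P₀ n S.X₃) := by
  induction n with
  | zero => exact ⟨fun _ => rfl, fun S hS h₁ h₂ h₃ => clSub_add P₀ S hS h₁ h₂ h₃⟩
  | succ n ih =>
    obtain ⟨hbase, hadd⟩ := ih
    have refine_cover : ∀ {A L' L : C}, Dim P₀ P₁ (n + 1) A → ∀ (h : L' ⟶ L) (π : L ⟶ A) (g : L' ⟶ A),
        h ≫ π = g → Epi h → Epi π → P₀ L' → P₀ L →
        KZero.clSub P₀ L' - chi P₀ n (kernel g) = KZero.clSub P₀ L - chi P₀ n (kernel π) := by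
      intro A L' L hA h π g hg _ _ hL' hL
      subst hg
      have h0 : P₀ (kernel h) := H.kernel₀ h hL' hL
      have e₁ : chi P₀ n (kernel (h ≫ π)) = chi P₀ n (kernel h) + chi P₀ n (kernel π) :=
        hadd _ (kernelComp_shortExact h π) (H.dim_mono (Nat.zero_le n) h0) (hA.2 _ _ (epi_comp h π) hL')
          (hA.2 _ _ ‹Epi π› hL)
      have e₂ : KZero.clSub P₀ L' = KZero.clSub P₀ (kernel h) + KZero.clSub P₀ L :=
        clSub_add P₀ _ (shortExact_kernel_ι h) h0 hL' hL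
      rw [e₁, e₂, hbase h0]
      abel
    have hW : ∀ {A L : C}, Dim P₀ P₁ (n + 1) A → ∀ (π : L ⟶ A), Epi π → P₀ L →
        chi P₀ (n + 1) A = KZero.clSub P₀ L - chi P₀ n (kernel π) := by
      intro A L hA π hπ hL
      have hex : ∃ (L : C) (π : L ⟶ A), Epi π ∧ P₀ L := ⟨L, π, hπ, hL⟩
      rw [chi, dif_pos hex]
      suffices key : ∀ (L₁ : C) (π₁ : L₁ ⟶ A), Epi π₁ → P₀ L₁ →
          KZero.clSub P₀ L₁ - chi P₀ n (kernel π₁) = KZero.clSub P₀ L - chi P₀ n (kernel π) from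
        key _ _ hex.choose_spec.choose_spec.1 hex.choose_spec.choose_spec.2
      intro L₁ π₁ hπ₁ hL₁
      obtain ⟨L₂, u', v', hL₂, hu', huv⟩ := H.h2 L₁ A L π₁ π hπ₁ (H.hle _ hL₁) hA.1 (H.hle _ hL)
      obtain ⟨M, m, hm, hM⟩ := H.cover (H.kernel₁ π₁ (H.hle _ hL₁) hA.1)
      let a : L₂ ⊞ M ⟶ L₁ := biprod.desc v' (m ≫ kernel.ι π₁)
      let b : L₂ ⊞ M ⟶ L := biprod.desc u' 0
      have hb : Epi b := epi_of_epi_fac (biprod.inl_desc _ _ : biprod.inl ≫ b = u')
      have ha : Epi a := by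
        refine Preadditive.epi_of_cancel_zero _ fun {Z} f hf => ?_
        have h1 : v' ≫ f = 0 := by
          have := congrArg (biprod.inl ≫ ·) hf
          simpa [a] using this
        have h2 : kernel.ι π₁ ≫ f = 0 := by
          have := congrArg (biprod.inr ≫ ·) hf
          simp [a] at this
          exact (cancel_epi m).1 (by simpa using this)
        obtain ⟨f', rfl⟩ := CokernelCofork.IsColimit.desc' (shortExact_kernel_ι π₁).gIsCokernel f h2
        have h3 : (u' ≫ π) ≫ f' = 0 := by rw [huv, Category.assoc]; exact h1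
        haveI := epi_comp u' π
        rw [show f' = 0 from (cancel_epi (u' ≫ π)).1 (h3.trans comp_zero.symm), comp_zero]
      have hab : a ≫ π₁ = b ≫ π := by
        ext
        · simp [a, b, huv]
        · simp [a, b]
      rw [← refine_cover hA a π₁ (b ≫ π) hab ha hπ₁ (H.biprod₀ hL₂ hM) hL₁,
        refine_cover hA b π (b ≫ π) rfl hb hπ (H.biprod₀ hL₂ hM) hL]
    refine ⟨fun {X} hX => ?_, fun S hS h₁ h₂ h₃ => ?_⟩
    · have h0 : P₀ (kernel (𝟙 X)) := H.kernel₀ (𝟙 X) hX hX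
      rw [hW (H.dim_mono (Nat.zero_le _) hX) (𝟙 X) inferInstance hX, hbase h0,
        clSub_of_isZero P₀ (IsZero.of_iso (isZero_zero C) (kernel.ofMono (𝟙 X))) h0, sub_zero]
    · obtain ⟨L', p, hp, hL'⟩ := H.cover h₁.1
      obtain ⟨L, q, hq, hL⟩ := H.cover h₂.1
      haveI := hS.epi_g
      let φ : ShortComplex.mk (biprod.inl : L' ⟶ L' ⊞ L) biprod.snd biprod.inl_snd ⟶ S :=
        { τ₁ := p, τ₂ := biprod.desc (p ≫ S.f) q, τ₃ := q ≫ S.g
          comm₁₂ := (biprod.inl_desc _ _).symm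
          comm₂₃ := by ext <;> simp }
      haveI : Epi φ.τ₁ := hp
      have hτ₂ : Epi φ.τ₂ := epi_of_epi_fac (biprod.inr_desc _ _ : biprod.inr ≫ φ.τ₂ = q)
      have hτ₃ : Epi φ.τ₃ := epi_comp q S.g
      have hLL := H.biprod₀ hL' hL
      have hk := hadd _ (kernels_shortExact (shortExact_biprod L' L) hS φ) (h₁.2 _ _ hp hL')
        (h₂.2 _ _ hτ₂ hLL) (h₃.2 _ _ hτ₃ hL)
      rw [hW h₁ p hp hL', hW h₂ φ.τ₂ hτ₂ hLL, hW h₃ φ.τ₃ hτ₃ hL, hk,
        clSub_add P₀ _ (shortExact_biprod L' L) hL' hLL hL]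
      abel

theorem chi_succ (n : ℕ) : ∀ {A : C}, Dim P₀ P₁ n A → chi P₀ (n + 1) A = chi P₀ n A := by
  induction n with
  | zero => exact fun h => (H.main 1).1 h
  | succ n ih =>
    intro A h
    have hex := H.cover h.1
    rw [chi, chi, dif_pos hex, dif_pos hex, ih (h.2 _ _ hex.choose_spec.choose_spec.1 hex.choose_spec.choose_spec.2)]

theorem chi_mono {m n : ℕ} (h : m ≤ n) {A : C} (hA : Dim P₀ P₁ m A) : chi P₀ n A = chi P₀ m A := by
  induction h with
  | refl => rfl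
  | step h ih => rw [H.chi_succ _ (H.dim_mono h hA), ih]

theorem map_chi : ∀ (n : ℕ) {A : C}, Dim P₀ P₁ n A →
    SGA6.mapSub (𝟭 C) P₀ P₁ H.hle (chi P₀ n A) = KZero.clSub P₁ A
  | 0, A, h => by rw [chi, clSub_eq P₀ h, clSub_eq P₁ (H.hle A h)]; rfl
  | n + 1, A, h => by
    have hex := H.cover h.1
    obtain ⟨hπ, hL⟩ := hex.choose_spec.choose_spec
    have hk := h.2 _ _ hπ hL
    rw [chi, dif_pos hex, map_sub, map_chi n hk,
      show SGA6.mapSub (𝟭 C) P₀ P₁ H.hle (KZero.clSub P₀ hex.choose) = KZero.clSub P₁ hex.choose by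
        rw [clSub_eq P₀ hL, clSub_eq P₁ (H.hle _ hL)]; rfl,
      clSub_add P₁ _ (shortExact_kernel_ι hex.choose_spec.choose) (H.dim_P₁ hk) (H.hle _ hL) h.1]
    abel

theorem bijective (hfin : ∀ A, P₁ A → ∃ n, Dim P₀ P₁ n A) : Function.Bijective (SGA6.mapSub (𝟭 C) P₀ P₁ H.hle) := by
  choose d hd using hfin
  let f : FreeAbelianGroup (Subtype P₁) →+ KZero.K0sub P₀ := FreeAbelianGroup.lift fun X => chi P₀ (d X.1 X.2) X.1
  have hf : KZero.relSub P₁ ≤ f.ker := by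
    rw [KZero.relSub, AddSubgroup.closure_le]
    rintro x ⟨S, h₁, h₂, h₃, hS, rfl⟩
    let n := d _ h₁ + d _ h₂ + d _ h₃
    have e := (H.main n).2 S hS (H.dim_mono (by omega) (hd _ h₁)) (H.dim_mono (by omega) (hd _ h₂))
      (H.dim_mono (by omega) (hd _ h₃))
    rw [H.chi_mono (by omega) (hd _ h₁), H.chi_mono (by omega) (hd _ h₂), H.chi_mono (by omega) (hd _ h₃)] at e
    simp [f, e]
  let g := QuotientAddGroup.lift (KZero.relSub P₁) f hf
  have hl : g.comp (SGA6.mapSub (𝟭 C) P₀ P₁ H.hle) = AddMonoidHom.id _ := by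
    refine QuotientAddGroup.addMonoidHom_ext _ (FreeAbelianGroup.lift_ext _ _ fun X => ?_)
    show f (FreeAbelianGroup.map _ (FreeAbelianGroup.of X)) = _
    rw [FreeAbelianGroup.map_of_apply]
    show f (FreeAbelianGroup.of ⟨X.1, H.hle X.1 X.2⟩) = _
    rw [FreeAbelianGroup.lift_apply_of, (H.main _).1 X.2, clSub_eq P₀ X.2]
    rfl
  have hr : (SGA6.mapSub (𝟭 C) P₀ P₁ H.hle).comp g = AddMonoidHom.id _ := by
    refine QuotientAddGroup.addMonoidHom_ext _ (FreeAbelianGroup.lift_ext _ _ fun X => ?_)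
    show SGA6.mapSub (𝟭 C) P₀ P₁ H.hle (f (FreeAbelianGroup.of X)) = _
    rw [FreeAbelianGroup.lift_apply_of, H.map_chi _ (hd _ X.2), clSub_eq P₁ X.2]
    rfl
  exact Function.bijective_iff_has_inverse.2 ⟨g, DFunLike.congr_fun hl, DFunLike.congr_fun hr⟩

end Hyp

/-- an infinite left resolution by objects of `P₀`, by its short exact pieces -/
structure Seq (P₀ : ObjectProperty C) (A : C) where
  K : ℕ → C
  L : ℕ → C
  ι : ∀ n, K (n + 1) ⟶ L n
  π : ∀ n, L n ⟶ K n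
  w : ∀ n, ι n ≫ π n = 0
  ses : ∀ n, (ShortComplex.mk (ι n) (π n) (w n)).ShortExact
  mem : ∀ n, P₀ (L n)
  e : K 0 ≅ A

theorem shortExact_prepend {K L A : C} {π : L ⟶ A} (e : K ≅ kernel π) [Epi π] :
    (ShortComplex.mk (e.hom ≫ kernel.ι π) π (by simp)).ShortExact :=
  ShortComplex.shortExact_of_iso
    (ShortComplex.isoMk e.symm (Iso.refl _) (Iso.refl _) (by simp) (by simp) :
      ShortComplex.mk (kernel.ι π) π (kernel.condition π) ≅ ShortComplex.mk (e.hom ≫ kernel.ι π) π (by simp))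
    (shortExact_kernel_ι π)

/-- the auxiliary recursion for `Seq.exists` -/
noncomputable def seqAux {P₀ P₁ : ObjectProperty C} (H : Hyp P₀ P₁) {A : C} (hA : P₁ A) : ℕ → {B : C // P₁ B}
  | 0 => ⟨A, hA⟩
  | n + 1 =>
    ⟨kernel (H.cover (seqAux H hA n).2).choose_spec.choose,
      haveI := (H.cover (seqAux H hA n).2).choose_spec.choose_spec.1
      H.kernel₁ _ (H.hle _ (H.cover (seqAux H hA n).2).choose_spec.choose_spec.2) (seqAux H hA n).2⟩

theorem exists_seq {P₀ P₁ : ObjectProperty C} (H : Hyp P₀ P₁) {A : C} (hA : P₁ A) : Nonempty (Seq P₀ A) :=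
  ⟨{ K := fun n => (seqAux H hA n).1
     L := fun n => (H.cover (seqAux H hA n).2).choose
     ι := fun n => kernel.ι (H.cover (seqAux H hA n).2).choose_spec.choose
     π := fun n => (H.cover (seqAux H hA n).2).choose_spec.choose
     w := fun n => kernel.condition _
     ses := fun n =>
       haveI := (H.cover (seqAux H hA n).2).choose_spec.choose_spec.1
       shortExact_kernel_ι _
     mem := fun n => (H.cover (seqAux H hA n).2).choose_spec.choose_spec.2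
     e := Iso.refl _ }⟩

theorem dim_of_seq {P₀ P₁ : ObjectProperty C} (H : Hyp P₀ P₁) :
    ∀ (n : ℕ) {A : C}, P₁ A → (∀ s : Seq P₀ A, P₀ (s.K n)) → Dim P₀ P₁ n A
  | 0, A, hA, h => by
    obtain ⟨s⟩ := exists_seq H hA
    haveI := H.iso₀
    exact P₀.prop_of_iso s.e (h s)
  | n + 1, A, hA, h => ⟨hA, fun L π hπ hL => dim_of_seq H n (H.kernel₁ π (H.hle _ hL) hA) fun s =>
      h { K := fun k => match k with | 0 => A | k + 1 => s.K k
          L := fun k => match k with | 0 => L | k + 1 => s.L k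
          ι := fun k => match k with | 0 => s.e.hom ≫ kernel.ι π | k + 1 => s.ι k
          π := fun k => match k with | 0 => π | k + 1 => s.π k
          w := fun k => match k with | 0 => by simp | k + 1 => s.w k
          ses := fun k => match k with
            | 0 => shortExact_prepend s.e
            | k + 1 => s.ses k
          mem := fun k => match k with | 0 => hL | k + 1 => s.mem k
          e := Iso.refl _ }⟩

/-- the complex of a resolution sequence -/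
noncomputable def Seq.cx {P₀ : ObjectProperty C} {A : C} (s : Seq P₀ A) : ChainComplex C ℕ :=
  ChainComplex.of s.L (fun n => s.π (n + 1) ≫ s.ι n) fun n => by
    rw [Category.assoc, ← Category.assoc (s.ι (n + 1)), s.w, zero_comp, comp_zero]

theorem fin_of_h3 {P₀ P₁ : ObjectProperty C} (H : Hyp P₀ P₁)
    (h3 : ∀ A : C, P₁ A → ∃ d : ℕ, ∀ L : ChainComplex C ℕ, (∀ i, P₀ (L.X i)) → (∀ i, 1 ≤ i → L.ExactAt i) →
      Nonempty (L.homology 0 ≅ A) → P₀ (L.cycles (d + 1))) (A : C) (hA : P₁ A) : ∃ n, Dim P₀ P₁ n A := by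
  obtain ⟨d, hd⟩ := h3 A hA
  refine ⟨d + 2, dim_of_seq H _ hA fun s => ?_⟩
  have hd' : ∀ k, s.cx.d (k + 1) k = s.π (k + 1) ≫ s.ι k := fun k => by simp [Seq.cx]
  haveI hm : ∀ k, Mono (s.ι k) := fun k => (s.ses k).mono_f
  haveI he : ∀ k, Epi (s.π k) := fun k => (s.ses k).epi_g
  have hc : P₀ (s.cx.cycles (d + 1)) := by
    refine hd s.cx s.mem (fun i hi => ?_) ⟨?_⟩
    · obtain ⟨j, rfl⟩ := Nat.exists_eq_add_of_le' hi
      rw [HomologicalComplex.exactAt_iff' _ (j + 2) (j + 1) j (by simp) (by simp)]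
      let φ : s.cx.sc' (j + 2) (j + 1) j ⟶ ShortComplex.mk (s.ι (j + 1)) (s.π (j + 1) ≫ s.ι j)
          (by rw [← Category.assoc, s.w, zero_comp]) :=
        { τ₁ := s.π (j + 2), τ₂ := 𝟙 _, τ₃ := 𝟙 _
          comm₁₂ := (hd' (j + 1)).symm.trans (Category.comp_id _).symm
          comm₂₃ := (Category.id_comp _).trans ((hd' j).symm.trans (Category.comp_id _).symm) }
      haveI : Epi φ.τ₁ := he (j + 2)
      haveI : IsIso φ.τ₂ := (inferInstance : IsIso (𝟙 (s.L (j + 1))))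
      haveI : Mono φ.τ₃ := (inferInstance : Mono (𝟙 (s.L j)))
      rw [ShortComplex.exact_iff_of_epi_of_isIso_of_mono φ]
      exact ShortComplex.exact_of_f_is_kernel _ (isKernelCompMono (s.ses (j + 1)).fIsKernel (s.ι j) rfl)
    · haveI : IsIso (s.cx.homologyι 0) := s.cx.isIso_homologyι 0 0 (by simp) (by simp)
      refine asIso (s.cx.homologyι 0) ≪≫ (s.cx.opcyclesIsCokernel 1 0 (by simp)).coconePointUniqueUpToIso
        (isCokernelEpiComp (s.ses 0).gIsCokernel (s.π 1) (hd' 0)) ≪≫ s.e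
  haveI := H.iso₀
  exact P₀.prop_of_iso ((s.cx.cyclesIsKernel (d + 1) d (by simp)).conePointUniqueUpToIso
    (isKernelCompMono (s.ses (d + 1)).fIsKernel (s.ι d) (hd' d))) hc

end Groth.Agent.Lead.KZeroRes
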